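import Groth.Agent.QCohMod.SubModExtend
import Groth.Agent.QCohMod.ExtendFT
import Groth.Agent.QCohMod.ExtendCases
import Groth.Agent.QCohMod.Coherent
import Mathlib.RingTheory.Filtration

/-!
# Coherent extensions of submodules meeting a kernel trivially

On a locally Noetherian scheme (not necessarily quasi-compact), a coherent submodule given on an
open on which a morphism is injective extends to one on which the morphism is injective.
-/

universe u

open CategoryTheory Limits AlgebraicGeometry Opposite TopologicalSpace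

namespace Groth.CohExtHom

open Groth.QCohMod Groth.QCohMod.SubMod

variable {X : Scheme.{u}} {E F : X.Modules} (ψ : E ⟶ F)

/-- `ψ` is injective on the sheaf of submodules `P` over the opens inside `W`. -/
def InjOn (P : SubMod E) (W : X.Opens) : Prop :=
  ∀ Y ≤ W, ∀ s ∈ P.mem Y, ψ.app Y s = 0 → s = 0

/-- A sheaf of submodules good on an open is good on the affine opens inside it. -/
theorem goodAt_of_goodOn [IsLocallyNoetherian X] [E.IsQuasicoherent] (hE : CohB1.IsFT E)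
    {P : SubMod E} {W A : X.Opens} (hP : P.GoodOn W) (hA : IsAffineOpen A) (hAW : A ≤ W) :
    P.GoodAt A := by
  classical
  have : IsNoetherianRing Γ(X, A) := IsLocallyNoetherian.component_noetherian ⟨A, hA⟩
  have : Module.Finite Γ(X, A) Γ(E, A) := finite_sections E hE hA
  refine ⟨hA, IsNoetherian.noetherian _, fun f s hs => ?_⟩
  obtain ⟨n, t, ht⟩ := exists_pow_smul_eq_res E hA f s
  choose B hB hxB hgB using fun x : A => GoodOn.exists_le (V := A) hP (hAW x.2) x.2
  obtain ⟨K, hK⟩ := hA.isCompact.elim_finite_subcover (fun x => (B x : Set X))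
    (fun x => (B x).2) (fun x hx => Set.mem_iUnion.mpr ⟨⟨x, hx⟩, hxB ⟨x, hx⟩⟩)
  choose N hN using fun x => exists_pow_smul_mem (P := P) f t
    (ht ▸ Submodule.smul_mem _ _ hs) (hgB x) ((hB x).trans inf_le_right)
  refine ⟨K.sup N + n, f ^ K.sup N • t, P.local_mem _ fun x hx => ?_, ?_⟩
  · obtain ⟨y, hy, hxy⟩ := Set.mem_iUnion₂.mp (hK hx)
    exact ⟨B y, (hB y).trans inf_le_right, hxy, hN y _ (Finset.le_sup hy)⟩
  · rw [res_smul, ht, map_pow, ← mul_smul, ← pow_add]

/-- On a Noetherian affine open, a finitely generated submodule can be shrunk away from an open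
so that it meets the kernel trivially. -/
theorem exists_injective_span [IsLocallyNoetherian X] [E.IsQuasicoherent] [F.IsQuasicoherent]
    (hE : CohB1.IsFT E) {V W : X.Opens} (hV : IsAffineOpen V) (hW : IsCompact ((V ⊓ W : X.Opens) : Set X))
    {Q : SubMod E} (hQ : Q.GoodAt V) (hinj : InjOn ψ Q W) :
    ∃ T : Set Γ(E, V), T.Finite ∧ Q.Agree (locSpan V T) (W ⊓ V) ∧ InjOn ψ (locSpan V T) V := by
  classical
  have : IsNoetherianRing Γ(X, V) := IsLocallyNoetherian.component_noetherian ⟨V, hV⟩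
  have : Module.Finite Γ(X, V) Γ(E, V) := finite_sections E hE hV
  choose f hxf hfW using fun x : (V ⊓ W : X.Opens) =>
    exists_basicOpen_mem hV x.2.1 (show x.1 ∈ V ⊓ W from x.2)
  obtain ⟨K, hK⟩ := hW.elim_finite_subcover (fun x => (X.basicOpen (f x) : Set X))
    (fun x => (X.basicOpen _).2) (fun x hx => Set.mem_iUnion.mpr ⟨⟨x, hx⟩, hxf ⟨x, hx⟩⟩)
  let J : Ideal Γ(X, V) := Ideal.span ↑(K.image f)
  let N : Submodule Γ(X, V) Γ(E, V) := Q.mem V ⊓ LinearMap.ker (appₗ ψ V)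
  have hloc : ∀ x ∈ K, f x ∈ N.annihilator.radical := by
    intro x _
    obtain ⟨S, hS⟩ : N.FG := IsNoetherian.noetherian N
    have hker : ∀ s ∈ N, ∃ k : ℕ, f x ^ k • s = 0 := fun s hs =>
      exists_pow_smul_eq_zero E hV (f x) s (hinj _ ((hfW x).trans inf_le_right) _
        (Q.res_mem _ _ hs.1) (by
          have h0 : ψ.app V s = 0 := hs.2
          rw [← res_app, h0, map_zero]))
    choose k hk using hker
    refine ⟨S.attach.sup fun s => k s.1 (hS.le (Submodule.subset_span s.2)), ?_⟩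
    rw [Submodule.mem_annihilator]
    intro n hn
    rw [← hS] at hn
    induction hn using Submodule.span_induction with
    | mem z hz =>
      obtain ⟨j, hj⟩ := Nat.exists_eq_add_of_le (Finset.le_sup
        (f := fun s : S => k s.1 (hS.le (Submodule.subset_span s.2))) (Finset.mem_attach S ⟨z, hz⟩))
      rw [hj, add_comm, pow_add, mul_smul, hk z _, smul_zero]
    | zero => exact smul_zero _
    | add p q _ _ hp hq => rw [smul_add, hp, hq, add_zero]
    | smul r p _ hp => rw [smul_comm, hp, smul_zero]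
  obtain ⟨m, hm⟩ := Ideal.exists_pow_le_of_le_radical_of_fg (I := J) (J := N.annihilator)
    (Ideal.span_le.mpr fun z hz => by
      obtain ⟨x, hx, rfl⟩ := Finset.mem_image.mp (Finset.mem_coe.mp hz)
      exact hloc x hx) ⟨_, rfl⟩
  obtain ⟨c, hc⟩ := Ideal.exists_pow_inf_eq_pow_smul J N
  let M' : Submodule Γ(X, V) Γ(E, V) := J ^ (c + m) • Q.mem V
  have hM' : ∀ t ∈ M', t ∈ Q.mem V ∧ (ψ.app V t = 0 → t = 0) := by
    intro t ht
    have htQ : t ∈ Q.mem V := Submodule.smul_le_right ht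
    refine ⟨htQ, fun h0 => ?_⟩
    have h1 : t ∈ J ^ (c + m) • (⊤ : Submodule Γ(X, V) Γ(E, V)) ⊓ N :=
      ⟨Submodule.smul_mono le_rfl le_top ht, htQ, h0⟩
    rw [hc _ (Nat.le_add_right c m), Nat.add_sub_cancel_left] at h1
    have h2 : J ^ m • N = ⊥ := eq_bot_iff.mpr (Submodule.smul_le.mpr fun r hr n hn =>
      (Submodule.mem_bot _).mpr (Submodule.mem_annihilator.mp (hm hr) n hn))
    exact (Submodule.mem_bot _).mp (h2.le (Submodule.smul_mono le_rfl inf_le_right h1))
  obtain ⟨T, hT⟩ : M'.FG := IsNoetherian.noetherian M'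
  refine ⟨T, T.finite_toSet, ?_, ?_⟩
  · intro Y hY
    ext s
    refine ⟨fun hs x hx => ?_, fun hs => Q.local_mem s fun x hx => ?_⟩
    · obtain ⟨y, hy, hxy⟩ := Set.mem_iUnion₂.mp (hK (show x ∈ ((V ⊓ W : X.Opens) : Set X) from
        ⟨hx.2, (hY hx.1).1⟩))
      obtain ⟨h, hxh, hhY⟩ := exists_basicOpen_mem hV hx.2
        (show x ∈ Y ⊓ X.basicOpen (f y) from ⟨hx.1, hxy⟩)
      refine ⟨X.basicOpen h, hhY.trans inf_le_left, X.basicOpen_le h, hxh, ?_⟩
      obtain ⟨G, hG⟩ := hQ.2.1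
      refine Submodule.span_le.mpr ?_
        (hQ.mem_span_res hG h _ (Q.res_mem (hhY.trans inf_le_left) s hs))
      rintro _ ⟨g, hg, rfl⟩
      have h1 : f y ^ (c + m) • g ∈ M' := Submodule.smul_mem_smul
        (Ideal.pow_mem_pow (Ideal.subset_span (Finset.mem_coe.mpr (Finset.mem_image_of_mem f hy))) _)
        (hG.le (Submodule.subset_span hg))
      rw [← hT] at h1
      have h2 := res_mem_span (X.basicOpen_le h) _ _ h1
      have hu : IsUnit (resFun X (X.basicOpen_le h) (f y ^ (c + m))) := by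
        rw [map_pow, ← resFun_resFun (X.basicOpen_le (f y)) (hhY.trans inf_le_right)]
        exact ((RingedSpace.isUnit_res_basicOpen _ _).map _).pow _
      obtain ⟨v, hv⟩ := hu
      rw [res_smul, ← hv] at h2
      have h3 := Submodule.smul_mem _ (↑v⁻¹ : Γ(X, X.basicOpen h)) h2
      rwa [← mul_smul, Units.inv_mul, one_smul] at h3
    · obtain ⟨Z, hZY, hZV, hxZ, hs'⟩ := hs x ⟨hx, (hY hx).2⟩
      refine ⟨Z, hZY, hxZ, Submodule.span_le.mpr ?_ hs'⟩
      rintro _ ⟨t, ht, rfl⟩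
      exact Q.res_mem _ _ (hM' t (hT.le (Submodule.subset_span ht))).1
  · intro Y hY s hs h0
    refine Groth.CohTwo.eq_of_local E _ _ fun x hx => ?_
    obtain ⟨Z, hZY, hZV, hxZ, hs'⟩ := hs x ⟨hx, hY hx⟩
    obtain ⟨h, hxh, hhZ⟩ := exists_basicOpen_mem hV (hY hx) hxZ
    refine ⟨X.basicOpen h, hhZ.trans hZY, hxh, ?_⟩
    rw [map_zero]
    have h1 := res_mem_span hhZ _ _ hs'
    rw [res_res, Set.image_image] at h1
    simp only [res_res] at h1
    obtain ⟨n, t, ht, hts⟩ := exists_pow_smul_eq_res_span hV _ h _ h1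
    rw [hT] at ht
    have ht0 : res F (X.basicOpen_le h) (ψ.app V t) = 0 := by
      rw [res_app, hts, Scheme.Modules.Hom.app_smul, ← res_app, h0, map_zero, smul_zero]
    obtain ⟨k, hk⟩ := exists_pow_smul_eq_zero F hV h _ ht0
    have h2 : h ^ k • t = 0 := (hM' _ (M'.smul_mem _ ht)).2 (by
      rw [Scheme.Modules.Hom.app_smul, hk])
    have h3 := congrArg (res E (X.basicOpen_le h)) h2
    rw [res_smul, hts, map_zero, map_pow, ← mul_smul, ← pow_add] at h3
    have hu : IsUnit (resFun X (X.basicOpen_le h) h ^ (k + n)) :=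
      IsUnit.pow _ (RingedSpace.isUnit_res_basicOpen _ h)
    obtain ⟨v, hv⟩ := hu
    rw [← hv] at h3
    have h4 := congrArg ((↑v⁻¹ : Γ(X, X.basicOpen h)) • ·) h3
    simp only [← mul_smul, Units.inv_mul, one_smul, smul_zero] at h4
    exact h4

variable (U : X.Opens) (P₀ : SubMod E)

/-- A partial extension. -/
structure Stage where
  W : X.Opens
  sub : SubMod E
  le : U ≤ W
  good : sub.GoodOn W
  inj : InjOn ψ sub W
  agree : sub.Agree P₀ U

variable {ψ U P₀}

theorem injOn_glue {κ : Type*} (W : κ → X.Opens) (P : κ → SubMod E)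
    (h : ∀ i j, (P i).Agree (P j) (W i ⊓ W j)) (hinj : ∀ i, InjOn ψ (P i) (W i)) :
    InjOn ψ (glue W P) (iSup W) := by
  intro Y hY s hs h0
  refine Groth.CohTwo.eq_of_local E _ _ fun x hx => ?_
  obtain ⟨i, hi⟩ := Opens.mem_iSup.mp (hY hx)
  refine ⟨Y ⊓ W i, inf_le_left, ⟨hx, hi⟩, ?_⟩
  rw [map_zero]
  refine hinj i _ inf_le_right _ ?_
    (show ψ.app _ (res E inf_le_left s) = 0 by rw [← res_app, h0, map_zero])
  rw [← glue_agree W P h i (Y ⊓ W i) inf_le_right]
  exact (glue W P).res_mem _ _ hs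

theorem exists_injective_extension [IsLocallyNoetherian X] [E.IsQuasicoherent] [F.IsQuasicoherent]
    (hE : CohB1.IsFT E) (hP₀ : P₀.GoodOn U) (hinj₀ : InjOn ψ P₀ U) :
    ∃ P : SubMod E, P.Agree P₀ U ∧ P.GoodOn ⊤ ∧ InjOn ψ P ⊤ := by
  classical
  let R : Stage ψ U P₀ → Stage ψ U P₀ → Prop := fun a b => a.W ≤ b.W ∧ b.sub.Agree a.sub a.W
  have hne : Nonempty (Stage ψ U P₀) := ⟨⟨U, P₀, le_rfl, hP₀, hinj₀, fun _ _ => rfl⟩⟩
  have hub : ∀ c : Set (Stage ψ U P₀), IsChain R c → c.Nonempty → ∃ ub, ∀ a ∈ c, R a ub := by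
    intro c hc ⟨a₀, ha₀⟩
    have hag : ∀ a b : c, a.1.sub.Agree b.1.sub (a.1.W ⊓ b.1.W) := by
      intro a b
      by_cases hab : a = b
      · subst hab; exact fun _ _ => rfl
      rcases hc a.2 b.2 (fun h => hab (Subtype.ext h)) with h | h
      · exact h.2.symm.mono inf_le_left
      · exact h.2.mono inf_le_right
    let Q : SubMod E := glue (fun a : c => a.1.W) fun a : c => a.1.sub
    have hQ : ∀ a : c, Q.Agree a.1.sub a.1.W := fun a => glue_agree _ _ hag a
    refine ⟨⟨⨆ a : c, a.1.W, Q, a₀.le.trans (le_iSup (fun a : c => a.1.W) ⟨a₀, ha₀⟩),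
      fun x hx => ?_, injOn_glue _ _ hag fun a => a.1.inj,
      ((hQ ⟨a₀, ha₀⟩).mono a₀.le).trans a₀.agree⟩,
      fun a ha => ⟨le_iSup (fun a : c => a.1.W) ⟨a, ha⟩, hQ ⟨a, ha⟩⟩⟩
    obtain ⟨a, hxa⟩ := Opens.mem_iSup.mp hx
    obtain ⟨B, hB, hxB, hgB⟩ := a.1.good x hxa
    exact ⟨B, hB.trans (le_iSup (fun a : c => a.1.W) a), hxB, hgB.congr ((hQ a).symm.mono hB)⟩
  obtain ⟨m, hm⟩ := exists_maximal_of_nonempty_chains_bounded (r := R) hub
    (fun {a b c} h h' => ⟨h.1.trans h'.1, (h'.2.mono h.1).trans h.2⟩)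
  suffices hW : m.W = ⊤ from ⟨m.sub, m.agree, hW ▸ m.good, hW ▸ m.inj⟩
  refine eq_top_iff.mpr fun x _ => ?_
  obtain ⟨V, hV, hxV⟩ := exists_affine_mem (X := X) x
  have hX : ∀ x : X, ∃ N : X.Opens, x ∈ N ∧ NoetherianSpace (N : Set X) := fun x => by
    obtain ⟨N, hN, hxN⟩ := exists_affine_mem (X := X) x
    have : IsNoetherianRing Γ(X, N) := IsLocallyNoetherian.component_noetherian ⟨N, hN⟩
    exact ⟨N, hxN, noetherianSpace_of_isAffineOpen N hN⟩
  have hc : IsCompact ((V ⊓ m.W : X.Opens) : Set X) :=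
    isCompact_inter_of_locallyNoetherianSpace hX hV m.W.2
  obtain ⟨Q, hQP, hQ⟩ := exists_step m.sub m.good hV hc
  have hQV : Q.GoodAt V := goodAt_of_goodOn hE hQ hV le_sup_right
  have hQinj : InjOn ψ Q m.W := fun Y hY s hs h0 => m.inj Y hY s (hQP Y hY ▸ hs) h0
  obtain ⟨T, hT, hagT, hinjT⟩ := exists_injective_span ψ hE hV hc hQV hQinj
  let Ws : Bool → X.Opens := fun b => bif b then m.W else V
  let Ps : Bool → SubMod E := fun b => bif b then Q else locSpan V T
  have hag : ∀ i j, (Ps i).Agree (Ps j) (Ws i ⊓ Ws j) := by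
    rintro (_ | _) (_ | _)
    · exact fun _ _ => rfl
    · exact (hagT.mono (inf_comm V m.W).le).symm
    · exact hagT
    · exact fun _ _ => rfl
  have hle : iSup Ws = m.W ⊔ V := iSup_bool_eq
  refine (show (m.W ⊔ V : X.Opens) ≤ m.W from (hm
    ⟨m.W ⊔ V, glue Ws Ps, m.le.trans le_sup_left, ?_, hle ▸ injOn_glue Ws Ps hag ?_, ?_⟩
    ⟨le_sup_left, (glue_agree Ws Ps hag true).trans hQP⟩).1) (Or.inr hxV)
  · rintro y (hy | hy)
    · obtain ⟨B, hBW, hyB, hB⟩ := m.good y hy
      exact ⟨B, hBW.trans le_sup_left, hyB,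
        hB.congr (((glue_agree Ws Ps hag true).trans hQP).symm.mono hBW)⟩
    · exact ⟨V, le_sup_right, hy,
        (locSpan_goodAt hV T hT).congr (glue_agree Ws Ps hag false).symm⟩
  · rintro (_ | _)
    · exact hinjT
    · exact hQinj
  · exact (((glue_agree Ws Ps hag true).trans hQP).mono m.le).trans m.agree

end Groth.CohExtHom
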